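import Mathlib
import Cfsg.Prelude.Def_CaseTheorems
import Cfsg.Agent.Lib.ExtremelyClosed.Basic
import Cfsg.Agent.Lib.ZStar.Elements

/-!
# Extremely closed abelian 2-subgroups: heredity and the reductions

Extreme closure passes to subgroups and to all quotients.  If all proper overgroups of `H` factor
as normalizer times odd core and no three conjugates generate, the normalizer centralizes `H`.
-/

set_option autoImplicit false
set_option maxHeartbeats 400000
set_option linter.style.haveILetI false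
set_option linter.unusedSectionVars false

namespace Cfsg.Agent.Lib.ExtClosed

open Cfsg
open Cfsg.Agent.Lib

universe u

variable {G : Type u} [Group G] {H : Subgroup G}

theorem cnj_map {G' : Type*} [Group G'] (f : G →* G') (g : G) (S : Subgroup G) :
    cnj (f g) (S.map f) = (cnj g S).map f := by
  simp only [cnj, Subgroup.map_map]
  congr 1
  ext x
  simp [mul_assoc]

theorem isExtremelyClosed_subgroupOf [Finite G] (hcl : IsExtremelyClosed H) {Y : Subgroup G} (hHY : H ≤ Y) :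
    IsExtremelyClosed (H.subgroupOf Y) := by
  intro y
  refine le_antisymm (fun x hx => ?_)
    (le_inf le_sup_left Subgroup.le_normalizer)
  obtain ⟨hx1, hx2⟩ := Subgroup.mem_inf.1 hx
  refine Subgroup.mem_subgroupOf.2 (mem_of_mem_sup_cnj hcl (g := (y : G)) ?_ ?_)
  · have h := Subgroup.mem_map_of_mem Y.subtype hx1
    rw [Subgroup.map_sup, ← cnj_map, Subgroup.map_subgroupOf_eq_of_le hHY] at h
    exact h
  · refine Subgroup.mem_normalizer_iff.2 fun z => ?_
    constructor
    · intro hz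
      exact Subgroup.mem_subgroupOf.1
        ((Subgroup.mem_normalizer_iff.1 hx2 ⟨z, hHY hz⟩).1 (Subgroup.mem_subgroupOf.2 hz))
    · intro hz
      have hzY : z ∈ Y := by
        have : (x : G)⁻¹ * ((x : G) * z * (x : G)⁻¹) * (x : G) ∈ Y :=
          Y.mul_mem (Y.mul_mem (Y.inv_mem x.2) (hHY hz)) x.2
        simpa [mul_assoc] using this
      exact Subgroup.mem_subgroupOf.1
        ((Subgroup.mem_normalizer_iff.1 hx2 ⟨z, hzY⟩).2 (Subgroup.mem_subgroupOf.2 hz))

variable [Finite G]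

/-- The odd core of a subgroup, inside the group. -/
abbrev oc (Y : Subgroup G) : Subgroup G := (pPrimeCore 2 Y).map Y.subtype

theorem oc_le (Y : Subgroup G) : oc Y ≤ Y := Subgroup.map_subtype_le _

theorem oc_odd (Y : Subgroup G) : Odd (Nat.card (oc Y)) := by
  rw [Subgroup.card_map_of_injective Y.subtype_injective]
  exact Nat.coprime_two_right.1 PSolvable.pPrimeCore_coprime

theorem conj_mem_oc {Y : Subgroup G} {y : G} (hy : y ∈ Y) {o : G} (ho : o ∈ oc Y) :
    y * o * y⁻¹ ∈ oc Y := by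
  obtain ⟨o, ho', rfl⟩ := ho
  haveI := PSolvable.pPrimeCore_characteristic (p := 2) (G := Y)
  exact ⟨⟨y, hy⟩ * o * ⟨y, hy⟩⁻¹, (inferInstance : (pPrimeCore 2 Y).Normal).conj_mem o ho' _, rfl⟩

theorem le_normalizer_oc (Y : Subgroup G) : Y ≤ Subgroup.normalizer (oc Y : Set G) := fun y hy =>
  mem_normalizer_of_cnj_eq (Subgroup.eq_of_le_of_card_ge
    (by rintro _ ⟨o, ho, rfl⟩; exact conj_mem_oc hy ho)
    (le_of_eq (Subgroup.card_map_of_injective (MulAut.conj _).injective).symm))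

/-- All proper overgroups of `H` are products of the normalizer of `H` and their odd core. -/
def FactorsBelow (H : Subgroup G) : Prop :=
  ∀ Y : Subgroup G, Y ≠ ⊤ → H ≤ Y → ∀ y ∈ Y, ∃ n ∈ Y, n ∈ Subgroup.normalizer (H : Set G) ∧
    ∃ o ∈ oc Y, y = n * o

theorem cnj_le_sup_oc (hfac : FactorsBelow H) {Y : Subgroup G} (hY : Y ≠ ⊤) (hHY : H ≤ Y) {y : G}
    (hy : y ∈ Y) : cnj y H ≤ H ⊔ oc Y := by
  obtain ⟨n, hn, hnN, o, ho, rfl⟩ := hfac Y hY hHY y hy
  rintro _ ⟨h, hh, rfl⟩
  have h1 : o * h * o⁻¹ ∈ H ⊔ oc Y :=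
    mul_mem (mul_mem (Subgroup.mem_sup_right ho) (Subgroup.mem_sup_left hh))
      (inv_mem (Subgroup.mem_sup_right ho))
  have h2 : cnj n (H ⊔ oc Y) ≤ H ⊔ oc Y := by
    rw [cnj, Subgroup.map_sup]
    refine sup_le_sup (le_of_eq (cnj_of_mem_normalizer hnN)) ?_
    rintro _ ⟨q, hq, rfl⟩
    exact conj_mem_oc hn hq
  have := h2 (conj_mem_cnj (H := H ⊔ oc Y) n h1)
  simpa [MulAut.conj_apply, mul_assoc] using this

variable (hH2 : IsPGroup 2 H) (hab : IsMulCommutative H) (hcl : IsExtremelyClosed H)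
include hH2 hab hcl

theorem kOf_mem_of_mem {Y : Subgroup G} (hHY : H ≤ Y) {g : G} (h : cnj g H ≤ Y) :
    kOf hH2 hab hcl g ∈ Y :=
  sup_le hHY h (kOf_spec hH2 hab hcl g).1

/-- An odd-order element of a two-conjugate subgroup lying in a proper overgroup `Y` of `H` lies
in the odd core of `Y`. -/
theorem odd_mem_oc (hfac : FactorsBelow H) {Y : Subgroup G} (hY : Y ≠ ⊤) (hHY : H ≤ Y) {g u : G}
    (huX : u ∈ H ⊔ cnj g H) (huY : u ∈ Y) (ho : Odd (orderOf u)) : u ∈ oc Y := by
  have hX : H ⊔ cnj u H ≤ H ⊔ cnj g H := sup_le le_sup_left (cnj_le_of_mem le_sup_left huX)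
  have hk := kOf_spec hH2 hab hcl u
  have hn : nOf hH2 hab hcl u ∈ H :=
    mem_of_mem_sup_cnj hcl (mul_mem (inv_mem (hX hk.1)) huX) (nOf_mem hH2 hab hcl u)
  have hu : u ∈ H ⊔ oc Y := by
    rw [← kOf_mul_nOf hH2 hab hcl u]
    exact mul_mem (kOf_mem_of_mem hH2 hab hcl le_sup_left (cnj_le_sup_oc hfac hY hHY huY))
      (Subgroup.mem_sup_left hn)
  exact odd_mem_of_mem_sup hH2 (hHY.trans (le_normalizer_oc Y)) hu ho

/-- If no three conjugates of `H` generate and conjugates of `H` generate, `N(H)` centralizes. -/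
theorem commute_of_no_triple (hfac : FactorsBelow H)
    (htriple : ∀ g f : G, H ⊔ cnj g H ⊔ cnj f H ≠ ⊤)
    (hgen : Subgroup.normalClosure (H : Set G) = ⊤) :
    ∀ n ∈ Subgroup.normalizer (H : Set G), ∀ h ∈ H, n * h * n⁻¹ = h := by
  set N := Subgroup.normalizer (H : Set G) with hN
  have key : ∀ g f : G, nOf hH2 hab hcl (g * f) *
      (nOf hH2 hab hcl g * nOf hH2 hab hcl f)⁻¹ ∈ Subgroup.centralizer (H : Set G) := by
    intro g f
    set Y := H ⊔ cnj g H ⊔ cnj (g * f) H with hYdef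
    have hY : Y ≠ ⊤ := htriple g (g * f)
    have hHY : H ≤ Y := le_sup_left.trans le_sup_left
    have hgY : cnj g H ≤ Y := le_sup_right.trans le_sup_left
    have hgfY : cnj (g * f) H ≤ Y := le_sup_right
    have hk1 := kOf_mem_of_mem hH2 hab hcl hHY hgY
    have hk2 := kOf_mem_of_mem hH2 hab hcl hHY hgfY
    have hk3 : g * kOf hH2 hab hcl f * g⁻¹ ∈ Y := by
      have h1 : cnj g (H ⊔ cnj f H) ≤ Y := by
        rw [cnj, Subgroup.map_sup]
        refine sup_le hgY ?_
        show cnj g (cnj f H) ≤ Y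
        rw [← cnj_mul]
        exact hgfY
      exact h1 (conj_mem_cnj g (kOf_spec hH2 hab hcl f).1)
    have hsub : Y ≤ H ⊔ oc Y := by
      refine sup_le (sup_le le_sup_left ?_) ?_
      · rw [← cnj_kOf hH2 hab hcl g]
        exact cnj_le_sup_oc hfac hY hHY hk1
      · rw [← cnj_kOf hH2 hab hcl (g * f)]
        exact cnj_le_sup_oc hfac hY hHY hk2
    set y := nOf hH2 hab hcl (g * f) * (nOf hH2 hab hcl g * nOf hH2 hab hcl f)⁻¹ with hy
    have hyN : y ∈ N :=
      mul_mem (nOf_mem hH2 hab hcl _)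
        (inv_mem (mul_mem (nOf_mem hH2 hab hcl _) (nOf_mem hH2 hab hcl _)))
    have hyY : y ∈ Y := by
      have : y = (kOf hH2 hab hcl (g * f))⁻¹ * (g * kOf hH2 hab hcl f * g⁻¹) *
          kOf hH2 hab hcl g := by
        rw [hy]
        simp only [nOf]
        group
      rw [this]
      exact mul_mem (mul_mem (inv_mem hk2) hk3) hk1
    have hy' : y ∈ ((H ⊔ oc Y : Subgroup G) : Set G) := hsub hyY
    rw [Subgroup.coe_mul_of_left_le_normalizer_right H _ (hHY.trans (le_normalizer_oc Y))] at hy'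
    obtain ⟨h₁, hh₁, o, ho, he⟩ := hy'
    have hoN : o ∈ N := by
      have : o = h₁⁻¹ * y := by rw [← he, inv_mul_cancel_left]
      rw [this]
      exact mul_mem (Subgroup.le_normalizer (H.inv_mem hh₁)) hyN
    rw [Subgroup.mem_centralizer_iff]
    intro h hh
    have h1 : o * h * o⁻¹ * h⁻¹ ∈ H :=
      H.mul_mem ((Subgroup.mem_normalizer_iff.1 hoN h).1 hh) (H.inv_mem hh)
    have h2 : o * h * o⁻¹ * h⁻¹ ∈ oc Y := by
      have := conj_mem_oc (hHY hh) ((oc Y).inv_mem ho)
      have := (oc Y).mul_mem ho this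
      simpa [mul_assoc] using this
    have h3 := mul_inv_eq_one.1 (eq_one_of_odd_mem hH2 h1 (odd_orderOf_of_mem (oc_odd Y) h2))
    have h4 : o * h = h * o := mul_inv_eq_iff_eq_mul.1 h3
    rw [← he]
    calc h * (h₁ * o) = h₁ * (h * o) := by
          rw [← mul_assoc, (commute_of_mem hab hh hh₁).eq, mul_assoc]
      _ = h₁ * o * h := by rw [← h4, mul_assoc]
  let ψ : G → MulAut H := fun g =>
    Subgroup.normalizerMonoidHom H ⟨nOf hH2 hab hcl g, nOf_mem hH2 hab hcl g⟩
  let φ : G →* MulAut H := MonoidHom.mk' ψ fun g f => by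
    simp only [ψ, ← map_mul]
    refine mul_inv_eq_one.1 ?_
    rw [← map_inv, ← map_mul, ← MonoidHom.mem_ker, Subgroup.normalizerMonoidHom_ker,
      Subgroup.mem_subgroupOf]
    exact key g f
  have hker : H ≤ φ.ker := fun h hh => by
    show Subgroup.normalizerMonoidHom H _ = 1
    rw [← MonoidHom.mem_ker, Subgroup.normalizerMonoidHom_ker, Subgroup.mem_subgroupOf]
    show nOf hH2 hab hcl h ∈ _
    rw [nOf_of_mem hH2 hab hcl (Subgroup.le_normalizer hh), Subgroup.mem_centralizer_iff]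
    exact fun x hx => (commute_of_mem hab hx hh).eq
  intro n hn h hh
  have h1 : n ∈ φ.ker := by
    have : Subgroup.normalClosure (H : Set G) ≤ φ.ker := Subgroup.normalClosure_le_normal hker
    rw [hgen] at this
    exact this (Subgroup.mem_top n)
  change Subgroup.normalizerMonoidHom H _ = 1 at h1
  rw [← MonoidHom.mem_ker, Subgroup.normalizerMonoidHom_ker, Subgroup.mem_subgroupOf] at h1
  change nOf hH2 hab hcl n ∈ _ at h1
  rw [nOf_of_mem hH2 hab hcl hn, Subgroup.mem_centralizer_iff] at h1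
  rw [← h1 h hh, mul_inv_cancel_right]

theorem isExtremelyClosed_map_mk' (K : Subgroup G) [K.Normal] :
    IsExtremelyClosed (H.map (QuotientGroup.mk' K)) := by
  intro q
  obtain ⟨g, rfl⟩ := QuotientGroup.mk'_surjective K q
  refine le_antisymm (fun x hx => ?_) (le_inf le_sup_left Subgroup.le_normalizer)
  obtain ⟨hx1, hx2⟩ := Subgroup.mem_inf.1 hx
  rw [show (H.map (QuotientGroup.mk' K)).map
      (MulAut.conj (QuotientGroup.mk' K g)).toMonoidHom = _ from cnj_map _ g H,
    ← Subgroup.map_sup] at hx1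
  obtain ⟨x', hx', rfl⟩ := hx1
  have hle : cnj x' H ≤ H ⊔ K := by
    have h1 := cnj_of_mem_normalizer hx2
    rw [cnj_map] at h1
    calc cnj x' H ≤ ((cnj x' H).map (QuotientGroup.mk' K)).comap (QuotientGroup.mk' K) :=
          Subgroup.le_comap_map _ _
      _ = H ⊔ K := by rw [h1, Subgroup.comap_map_eq, QuotientGroup.ker_mk']
  have hk := kOf_spec hH2 hab hcl x'
  have hn : nOf hH2 hab hcl x' ∈ H :=
    mem_of_mem_sup_cnj hcl
      (mul_mem (inv_mem (sup_le le_sup_left (cnj_le_of_mem le_sup_left hx') hk.1)) hx')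
      (nOf_mem hH2 hab hcl x')
  have hmem : x' ∈ H ⊔ K := by
    rw [← kOf_mul_nOf hH2 hab hcl x']
    exact mul_mem (kOf_mem_of_mem hH2 hab hcl le_sup_left hle) (Subgroup.mem_sup_left hn)
  have := Subgroup.mem_map_of_mem (QuotientGroup.mk' K) hmem
  rwa [Subgroup.map_sup, QuotientGroup.map_mk'_self, sup_bot_eq] at this

end Cfsg.Agent.Lib.ExtClosed
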