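import Mathlib
import Cfsg.Agent.Lib.ExtremelyClosed.Factor
import Cfsg.Agent.Lib.CharCount.Basic
import Cfsg.Agent.Lib.BrauerSuzukiQ.Section

/-!
# Extremely closed abelian 2-subgroups: the principal block inequality

If three conjugates of `H` generate `G`, the centre meets `H` trivially and all proper overgroups
factor, then some non-trivial element of `H` is fixed by the normalizer of `H`.
-/

set_option autoImplicit false
set_option maxHeartbeats 1000000
set_option linter.style.haveILetI false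
set_option linter.unusedSectionVars false

namespace Cfsg.Agent.Lib.ExtClosed

open Cfsg
open Cfsg.Agent.Lib
open Cfsg.Agent.Lib.BrauerSuzukiQ
open scoped ComplexConjugate

universe u

variable {G : Type u} [Group G] [Finite G] {H : Subgroup G}

/-- Degree and trivial multiplicity on a subgroup. -/
theorem exists_degree_mult (A : Subgroup G) [Fintype A] (χ : IrrCharacter G) :
    ∃ d m : ℕ, 0 < d ∧ (χ : G → ℂ) 1 = d ∧
      ∑ a : A, (χ : G → ℂ) a = (Nat.card A : ℂ) * m ∧
      (χ = Chars.trivialIrr G → d = 1 ∧ m = 1) ∧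
      (χ ≠ Chars.trivialIrr G →
        ∀ g f : G, A ⊔ cnj g A ⊔ cnj f A = ⊤ → 3 * m ≤ 2 * d) := by
  classical
  cases nonempty_fintype G
  obtain ⟨n, ρ, hirr, hχ⟩ := χ.2
  have h1 : (χ : G → ℂ) 1 = (n : ℂ) := by
    rw [← hχ, Representation.char_one, Module.finrank_fintype_fun_eq_card, Fintype.card_fin]
  have hn : 0 < n := Nat.pos_of_ne_zero fun h => Chars.irr_apply_one_ne_zero χ (by rw [h1, h]; simp)
  let : Invertible (Nat.card A : ℂ) := invertibleOfNonzero (Nat.cast_ne_zero.2 Nat.card_pos.ne')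
  let : Invertible (Nat.card G : ℂ) := invertibleOfNonzero (Nat.cast_ne_zero.2 Nat.card_pos.ne')
  set σ : Representation ℂ A (Fin n → ℂ) := ρ.comp A.subtype with hσ
  set W := σ.invariants with hW
  have hsum : ∑ a : A, (χ : G → ℂ) a = (Nat.card A : ℂ) * (Module.finrank ℂ W : ℕ) := by
    rw [← Representation.card_inv_mul_sum_char_eq_finrank σ, ← mul_assoc,
      mul_inv_cancel₀ (Nat.cast_ne_zero.2 Nat.card_pos.ne'), one_mul, ← hχ]
    rfl
  refine ⟨n, Module.finrank ℂ W, hn, h1, hsum, ?_, ?_⟩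
  · intro ht
    refine ⟨?_, ?_⟩
    · rw [ht, Chars.trivialIrr_apply] at h1
      exact_mod_cast h1.symm
    · rw [ht] at hsum
      simp only [Chars.trivialIrr_apply, Finset.sum_const, Finset.card_univ, nsmul_eq_mul, mul_one,
        ← Nat.card_eq_fintype_card] at hsum
      exact_mod_cast (mul_eq_left₀ (Nat.cast_ne_zero.2 Nat.card_pos.ne')).1 hsum.symm
  · intro hne g f hgen
    have hinv : ρ.invariants = ⊥ := by
      have h := Representation.card_inv_mul_sum_char_eq_finrank ρ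
      have h0 := Chars.classInner_irr_of_ne hne
      simp only [classInner, Chars.trivialIrr_apply, map_one, mul_one,
        finsum_eq_sum_of_fintype] at h0
      rw [hχ, h0] at h
      rw [← Submodule.finrank_eq_zero]
      exact_mod_cast h.symm
    let e : G → ((Fin n → ℂ) ≃ₗ[ℂ] (Fin n → ℂ)) := fun x =>
      { ρ x with
        invFun := ρ x⁻¹
        left_inv := fun v => by simp
        right_inv := fun v => by simp }
    set W₁ := W.map (e g).toLinearMap with hW₁
    set W₂ := W.map (e f).toLinearMap with hW₂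
    have hd₁ : Module.finrank ℂ W₁ = Module.finrank ℂ W := (e g).finrank_map_eq W
    have hd₂ : Module.finrank ℂ W₂ = Module.finrank ℂ W := (e f).finrank_map_eq W
    have hbot : W ⊓ W₁ ⊓ W₂ = ⊥ := by
      rw [← le_bot_iff, ← hinv]
      intro v hv
      obtain ⟨⟨hv0, hv1⟩, hv2⟩ := hv
      let St : Subgroup G :=
        { carrier := {x | ρ x v = v}
          one_mem' := by simp
          mul_mem' := fun {x y} hx hy => by
            show ρ (x * y) v = v
            rw [map_mul, Module.End.mul_apply, hy, hx]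
          inv_mem' := fun {x} hx => by
            show ρ x⁻¹ v = v
            conv_lhs => rw [← show ρ x v = v from hx]
            rw [← Module.End.mul_apply, ← map_mul, inv_mul_cancel, map_one, Module.End.one_apply] }
      have hA : ∀ (x : G) (w : Fin n → ℂ), w ∈ W → ρ x w = v → cnj x A ≤ St := by
        intro x w hw hxw y hy
        rw [mem_cnj] at hy
        have hfix : ρ (x⁻¹ * y * x) w = w := hw ⟨_, hy⟩
        show ρ y v = v
        rw [← hxw, ← Module.End.mul_apply, ← map_mul,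
          show y * x = x * (x⁻¹ * y * x) by group, map_mul, Module.End.mul_apply, hfix]
      obtain ⟨w₁, hw₁, hw₁'⟩ := hv1
      obtain ⟨w₂, hw₂, hw₂'⟩ := hv2
      have h3 : A ⊔ cnj g A ⊔ cnj f A ≤ St := by
        refine sup_le (sup_le (fun y hy => ?_) (hA g w₁ hw₁ hw₁')) (hA f w₂ hw₂ hw₂')
        exact hv0 ⟨y, hy⟩
      rw [hgen] at h3
      exact fun x => h3 (Subgroup.mem_top x)
    have e1 := Submodule.finrank_sup_add_finrank_inf_eq W W₁
    have e2 := Submodule.finrank_sup_add_finrank_inf_eq (W ⊓ W₁) W₂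
    have b1 := Submodule.finrank_le (W ⊔ W₁)
    have b2 := Submodule.finrank_le (W ⊓ W₁ ⊔ W₂)
    rw [hbot, finrank_bot] at e2
    rw [Module.finrank_fintype_fun_eq_card, Fintype.card_fin] at b1 b2
    omega

variable (hH2 : IsPGroup 2 H) (hab : IsMulCommutative H) (hcl : IsExtremelyClosed H)
include hH2 hab hcl

theorem two_dvd_orderOf {h : G} (hh : h ∈ H) (h1 : h ≠ 1) : 2 ∣ orderOf h := by
  obtain ⟨k, hk⟩ := exists_orderOf_pow hH2 hh
  rcases k with - | k
  · exact absurd (orderOf_eq_one_iff.1 (by simpa using hk)) h1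
  · exact ⟨2 ^ k, by rw [hk, pow_succ']⟩

/-- The main inequality: some non-trivial element of `H` is fixed by `N(H)`. -/
theorem exists_fixed_of_triple (hH1 : H ≠ ⊥) (hfac : FactorsBelow H)
    (hcenter : ∀ h ∈ H, h ∈ Subgroup.center G → h = 1)
    (g₀ f₀ : G) (hgen : H ⊔ cnj g₀ H ⊔ cnj f₀ H = ⊤) :
    ∃ h ∈ H, h ≠ 1 ∧ ∀ n ∈ Subgroup.normalizer (H : Set G), n * h * n⁻¹ = h := by
  classical
  by_contra hcon
  push Not at hcon
  cases nonempty_fintype G
  haveI : Fact (Nat.Prime 2) := ⟨Nat.prime_two⟩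
  obtain ⟨M, hM⟩ := CharCount.exists_isPModular 2 Nat.prime_two
  haveI : M.IsPrime := hM.2.1.isPrime
  set q := Nat.card H with hq
  set Hs : Finset G := Finset.univ.filter (fun x => x ∈ H ∧ x ≠ 1) with hHs
  have memHs : ∀ x, x ∈ Hs ↔ x ∈ H ∧ x ≠ 1 := fun x => by simp [hHs]
  set B := pb M G with hB
  -- degrees and multiplicities
  choose d m hd0 hd hm htriv hbound using exists_degree_mult (G := G) H
  set S : IrrCharacter G → ℂ := fun χ => ∑ h ∈ Hs, (χ : G → ℂ) h with hS
  set Sz : IrrCharacter G → ℤ := fun χ => (q : ℤ) * m χ - d χ with hSz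
  have hall : ∀ φ : G → ℂ, ∑ a : H, φ a = φ 1 + ∑ h ∈ Hs, φ h := by
    intro φ
    have e : ∑ a : H, φ a = ∑ x ∈ Finset.univ.filter (fun x => x ∈ H), φ x :=
      (Finset.sum_subtype (Finset.univ.filter (fun x => x ∈ H)) (by simp) φ).symm
    rw [e, ← Finset.add_sum_erase _ _ (show (1 : G) ∈ _ by simp [H.one_mem])]
    refine congrArg _ (Finset.sum_congr ?_ fun _ _ => rfl)
    ext x
    simp [hHs, and_comm]
  have hSval : ∀ χ, S χ = (Sz χ : ℂ) := by
    intro χ
    have h := hm χ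
    rw [hall, hd χ] at h
    simp only [hS, hSz, ← hq] at h ⊢
    push_cast
    linear_combination h
  have hconjS : ∀ χ, conj (S χ) = S χ := fun χ => by rw [hSval, map_intCast]
  have hcard : Hs.card + 1 = q := by
    have h := hall (fun _ => 1)
    simp only [Finset.sum_const, Finset.card_univ, nsmul_eq_mul, mul_one,
      ← Nat.card_eq_fintype_card, ← hq] at h
    have h' : q = 1 + Hs.card := by exact_mod_cast h
    omega
  -- conjugation by normalizing elements permutes `Hs`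
  have hnHs : ∀ n ∈ Subgroup.normalizer (H : Set G), ∀ b ∈ Hs, n * b * n⁻¹ ∈ Hs := by
    intro n hn b hb
    rw [memHs] at hb ⊢
    exact ⟨(Subgroup.mem_normalizer_iff.1 hn b).1 hb.1, by simpa using hb.2⟩
  -- the value on a product of conjugates
  have hval : ∀ a ∈ Hs, ∀ b ∈ Hs, ∀ g : G,
      ∑ χ ∈ B, (χ : G → ℂ) (a * (g * b * g⁻¹)) * conj (S χ) =
        if a * (nOf hH2 hab hcl g * b * (nOf hH2 hab hcl g)⁻¹) = 1 then 0
        else ∑ χ ∈ B, (χ : G → ℂ) (a * (nOf hH2 hab hcl g * b * (nOf hH2 hab hcl g)⁻¹)) *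
          conj (S χ) := by
    intro a ha b hb g
    rw [memHs] at ha hb
    obtain ⟨v, hvX, hvo, hvc, hconj⟩ := exists_isConj_mul hH2 hab hcl ha.1 hb.1 g
    set c := a * (nOf hH2 hab hcl g * b * (nOf hH2 hab hcl g)⁻¹) with hc
    have hcH : c ∈ H :=
      H.mul_mem ha.1 ((Subgroup.mem_normalizer_iff.1 (nOf_mem hH2 hab hcl g) b).1 hb.1)
    have hrew : ∀ χ : IrrCharacter G, (χ : G → ℂ) (a * (g * b * g⁻¹)) = (χ : G → ℂ) (c * v) :=
      fun χ => by
        obtain ⟨w, hw⟩ := isConj_iff.1 hconj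
        rw [← hw, Chars.irr_isClassFunction χ]
    simp only [hrew]
    split_ifs with h1
    · simp only [h1, one_mul, hS, map_sum, Finset.mul_sum]
      rw [Finset.sum_comm]
      refine Finset.sum_eq_zero fun h hh => ?_
      rw [memHs] at hh
      exact orth_weak hM (fun h2 => Nat.not_even_iff_odd.2 hvo (even_iff_two_dvd.2 h2))
        (two_dvd_orderOf hH2 hab hcl hh.1 hh.2)
    · refine Finset.sum_congr rfl fun χ hχ => ?_
      congr 1
      have hC : Subgroup.centralizer ({c} : Set G) ≠ ⊤ := fun htop => h1 (hcenter c hcH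
        (Subgroup.mem_center_iff.2 fun x => Subgroup.mem_centralizer_singleton_iff.1
          (htop ▸ Subgroup.mem_top x)))
      have hHC : H ≤ Subgroup.centralizer ({c} : Set G) := fun x hx =>
        Subgroup.mem_centralizer_singleton_iff.2 (commute_of_mem hab hx hcH).eq
      have hvC : v ∈ Subgroup.centralizer ({c} : Set G) :=
        Subgroup.mem_centralizer_singleton_iff.2 hvc.eq.symm
      exact Blocks.PrincipalSection.apply_mul_eq hM (exists_orderOf_pow hH2 hcH)
        (secondMain hM c (exists_orderOf_pow hH2 hcH))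
        (show v ∈ centralizerPPrimeCore 2 c from
          odd_mem_oc hH2 hab hcl hfac hC hHC hvX hvC hvo) (mem_pb.1 hχ)
  set Φ : G → ℂ := fun c => ∑ χ ∈ B, (χ : G → ℂ) c * conj (S χ) with hΦ
  set T : ℂ := ∑ c ∈ Hs, Φ c with hT
  have hgsum : ∀ g : G, ∑ a ∈ Hs, ∑ b ∈ Hs, ∑ χ ∈ B,
      (χ : G → ℂ) (a * (g * b * g⁻¹)) * conj (S χ) = ((Hs.card : ℂ) - 1) * T := by
    intro g
    set n := nOf hH2 hab hcl g
    have hn := nOf_mem hH2 hab hcl g
    have inner : ∀ a ∈ Hs, (∑ b ∈ Hs, ∑ χ ∈ B,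
        (χ : G → ℂ) (a * (g * b * g⁻¹)) * conj (S χ)) = T - Φ a := by
      intro a ha
      rw [Finset.sum_congr rfl fun b hb => hval a ha b hb g, Finset.sum_ite,
        Finset.sum_const_zero, zero_add, eq_sub_iff_add_eq, hT,
        ← Finset.sum_erase_add _ _ ha]
      congr 1
      have haH := ((memHs a).1 ha).1
      refine Finset.sum_bij' (fun b _ => a * (n * b * n⁻¹)) (fun c _ => n⁻¹ * (a⁻¹ * c) * n)
        ?_ ?_ ?_ ?_ ?_
      · intro b hb
        simp only [Finset.mem_filter] at hb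
        have hb' := (memHs _).1 (hnHs n hn b hb.1)
        rw [Finset.mem_erase, memHs]
        exact ⟨fun he => hb'.2 (mul_eq_left.1 he), H.mul_mem haH hb'.1, hb.2⟩
      · intro c hc
        rw [Finset.mem_erase, memHs] at hc
        simp only [Finset.mem_filter]
        refine ⟨?_, fun he => hc.2.2 (by
          rw [← he]; simp only [n]; group)⟩
        have := hnHs n⁻¹ (inv_mem hn) (a⁻¹ * c) ((memHs _).2
          ⟨H.mul_mem (H.inv_mem haH) hc.2.1, fun h => hc.1 (inv_mul_eq_one.1 h).symm⟩)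
        simpa using this
      · intros; group
      · intros; group
      · intros; rfl
    rw [Finset.sum_congr rfl inner, Finset.sum_sub_distrib, Finset.sum_const, nsmul_eq_mul, ← hT]
    ring
  have hTS : T = ∑ χ ∈ B, S χ * conj (S χ) := by
    rw [hT]
    simp only [hΦ]
    rw [Finset.sum_comm]
    simp [hS, Finset.sum_mul]
  have hmain : ∑ χ ∈ B, (Sz χ : ℂ) ^ 3 / (d χ : ℂ) =
      ((Hs.card : ℂ) - 1) * ∑ χ ∈ B, (Sz χ : ℂ) ^ 2 := by
    have hG : (Nat.card G : ℂ) ≠ 0 := Chars.natCard_ne_zero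
    apply mul_left_cancel₀ hG
    have h := Finset.sum_congr rfl fun g (_ : g ∈ (Finset.univ : Finset G)) => hgsum g
    rw [Finset.sum_const, Finset.card_univ, nsmul_eq_mul, ← Nat.card_eq_fintype_card, hTS] at h
    simp only [hSval, map_intCast, ← sq] at h
    refine Eq.trans ?_ h
    rw [Finset.sum_comm, Finset.mul_sum]
    have step : ∀ a : G, ∑ g : G, ∑ b ∈ Hs, ∑ χ ∈ B,
        (χ : G → ℂ) (a * (g * b * g⁻¹)) * (Sz χ : ℂ) =
        ∑ b ∈ Hs, ∑ χ ∈ B, (Nat.card G : ℂ) * (χ : G → ℂ) a * (χ : G → ℂ) b / (d χ : ℂ) *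
          (Sz χ : ℂ) := by
      intro a
      rw [Finset.sum_comm]
      refine Finset.sum_congr rfl fun b _ => ?_
      rw [Finset.sum_comm]
      refine Finset.sum_congr rfl fun χ _ => ?_
      rw [← Finset.sum_mul, CharCount.sum_conj_mul χ a b, hd χ]
    rw [Finset.sum_congr rfl fun a (_ : a ∈ Hs) => step a]
    conv_rhs => enter [2, a]; rw [Finset.sum_comm]
    rw [Finset.sum_comm]
    refine Finset.sum_congr rfl fun χ _ => ?_
    simp only [← Finset.sum_mul, ← Finset.sum_div, ← Finset.mul_sum,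
      show ∑ h ∈ Hs, (χ : G → ℂ) h = (Sz χ : ℂ) from hSval χ]
    ring
  -- column norms
  have hL : ∀ h ∈ Hs, ∃ L : ℕ, q ≤ L ∧
      ∑ χ ∈ B, (χ : G → ℂ) h * conj ((χ : G → ℂ) h) = L := by
    intro h hh
    rw [memHs] at hh
    set C := Subgroup.centralizer ({h} : Set G)
    have hHC : H ≤ C := fun x hx =>
      Subgroup.mem_centralizer_singleton_iff.2 (commute_of_mem hab hx hh.1).eq
    have hsec := sum_section hM (exists_orderOf_pow hH2 hh.1) (y := (1 : C)) (y' := (1 : C))
      (by simp) (by simp)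
    simp only [OneMemClass.coe_one, mul_one] at hsec
    have hAc : Nat.card (H.subgroupOf C) = q :=
      Nat.card_congr (Subgroup.subgroupOfEquivOfLe hHC).toEquiv
    choose e k he0 he hk htr _ using exists_degree_mult (G := C) (H.subgroupOf C)
    refine ⟨q * ∑ ξ ∈ pb M C, e ξ * k ξ, Nat.le_mul_of_pos_right _ ?_, ?_⟩
    · refine lt_of_lt_of_le ?_ (Finset.single_le_sum (fun ξ _ => Nat.zero_le _) trivial_mem_pb)
      rw [(htr _ rfl).1, (htr _ rfl).2]
      exact Nat.one_pos
    · rw [hsec]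
      have h0 : ∑ a : H.subgroupOf C, ∑ ξ ∈ pb M C, (ξ : C → ℂ) 1 * conj ((ξ : C → ℂ) a) =
          ∑ ξ ∈ pb M C, (ξ : C → ℂ) 1 * conj ((ξ : C → ℂ) 1) := by
        rw [Finset.sum_eq_single (1 : H.subgroupOf C) ?_ (by simp), OneMemClass.coe_one]
        intro a _ ha
        refine orth_weak hM (by simp) ?_
        rw [← Subgroup.orderOf_coe ((a : H.subgroupOf C) : C)]
        exact two_dvd_orderOf hH2 hab hcl (Subgroup.mem_subgroupOf.1 a.2)
          (fun h' => ha (Subtype.ext (Subtype.ext h')))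
      rw [← h0, Finset.sum_comm]
      push_cast
      rw [Finset.mul_sum]
      refine Finset.sum_congr rfl fun ξ _ => ?_
      rw [← Finset.mul_sum, ← map_sum, hk ξ, he ξ, hAc, map_mul, map_natCast, map_natCast]
      ring
  choose L hLq hLeq using hL
  -- T as a sum over classes
  set cls : G → Finset G := fun h => Hs.filter (fun c => IsConj h c) with hcls
  have hTcls : ((∑ χ ∈ B, Sz χ ^ 2 : ℤ) : ℂ) =
      ((∑ h : Hs, (cls h).card * L h h.2 : ℕ) : ℂ) := by
    push_cast
    rw [show (∑ χ ∈ B, (Sz χ : ℂ) ^ 2) = T by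
      rw [hTS]; exact Finset.sum_congr rfl fun χ _ => by rw [hconjS, hSval, sq]]
    rw [hT, ← Finset.sum_coe_sort Hs]
    refine Finset.sum_congr rfl fun h _ => ?_
    simp only [hΦ, hS, map_sum, Finset.mul_sum]
    rw [Finset.sum_comm, ← hLeq h h.2, hcls, Finset.card_filter, Nat.cast_sum, Finset.sum_mul]
    refine Finset.sum_congr rfl fun c hc => ?_
    split_ifs with hcj
    · obtain ⟨w, hw⟩ := isConj_iff.1 hcj
      rw [Nat.cast_one, one_mul]
      refine Finset.sum_congr rfl fun χ _ => ?_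
      rw [← hw, Chars.irr_isClassFunction χ]
    · rw [Nat.cast_zero, zero_mul]
      exact orth_conj hM
        (Blocks.isPPart_self_of_pElement (exists_orderOf_pow hH2 ((memHs _).1 h.2).1))
        (Blocks.isPPart_self_of_pElement (exists_orderOf_pow hH2 ((memHs _).1 hc).1)) hcj
  have hTcls' : (∑ χ ∈ B, Sz χ ^ 2 : ℤ) = ((∑ h : Hs, (cls h).card * L h h.2 : ℕ) : ℤ) := by
    exact_mod_cast hTcls
  -- every element of `Hs` is moved
  have hmove : ∀ h ∈ Hs, ∃ c ∈ Hs, c ≠ h ∧ IsConj h c := by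
    intro h hh
    obtain ⟨n, hn, hne⟩ := hcon h ((memHs h).1 hh).1 ((memHs h).1 hh).2
    exact ⟨n * h * n⁻¹, hnHs n hn h hh, hne, isConj_iff.2 ⟨n, rfl⟩⟩
  have hcls2 : ∀ h ∈ Hs, 2 ≤ (cls h).card := by
    intro h hh
    obtain ⟨c, hc, hne, hcj⟩ := hmove h hh
    exact Finset.one_lt_card.2 ⟨h, Finset.mem_filter.2 ⟨hh, IsConj.refl _⟩, c,
      Finset.mem_filter.2 ⟨hc, hcj⟩,
      hne.symm⟩
  have hTge : 2 * (Hs.card * q) ≤ ∑ h : Hs, (cls h).card * L h h.2 := by
    calc 2 * (Hs.card * q) = ∑ _h : Hs, 2 * q := by simp; ring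
      _ ≤ _ := Finset.sum_le_sum fun h _ => Nat.mul_le_mul (hcls2 h h.2) (hLq h h.2)
  -- the inequality
  have htr := htriv (Chars.trivialIrr G) rfl
  have hS1 : Sz (Chars.trivialIrr G) = (q : ℤ) - 1 := by simp [hSz, htr.1, htr.2]
  set B' := B.erase (Chars.trivialIrr G) with hB'
  have hB1 : Chars.trivialIrr G ∈ B := trivial_mem_pb
  set R : IrrCharacter G → ℝ :=
    fun χ => (Sz χ : ℝ) ^ 2 * ((2 * (q : ℝ) - 3) - 3 * (Sz χ : ℝ) / (d χ : ℝ)) with hR
  have hRnn : ∀ χ ∈ B', 0 ≤ R χ := by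
    intro χ hχ
    have hb := hbound χ (Finset.ne_of_mem_erase hχ) g₀ f₀ hgen
    have hdpos : (0 : ℝ) < d χ := by exact_mod_cast hd0 χ
    refine mul_nonneg (sq_nonneg _) (sub_nonneg.2 ((div_le_iff₀ hdpos).2 ?_))
    simp only [hSz]
    push_cast
    have : (3 : ℝ) * m χ ≤ 2 * d χ := by exact_mod_cast hb
    nlinarith [Nat.cast_nonneg (α := ℝ) q]
  have hmainR : ∑ χ ∈ B, (Sz χ : ℝ) ^ 3 / (d χ : ℝ) =
      ((Hs.card : ℝ) - 1) * ∑ χ ∈ B, (Sz χ : ℝ) ^ 2 := by
    apply Complex.ofReal_injective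
    push_cast
    exact hmain
  have hcardR : (Hs.card : ℝ) = (q : ℝ) - 1 := by
    rw [← hcard]; push_cast; ring
  set T' := ∑ χ ∈ B', (Sz χ : ℝ) ^ 2 with hT'
  have hsplit : ((q : ℝ) - 3) * T' + ∑ χ ∈ B', R χ = 3 * ((q : ℝ) - 1) ^ 2 := by
    rw [← Finset.add_sum_erase _ _ hB1, ← Finset.add_sum_erase _ _ hB1, ← hB', ← hT', hS1,
      hcardR, htr.1] at hmainR
    have : ∑ χ ∈ B', R χ =
        (2 * (q : ℝ) - 3) * T' - 3 * ∑ χ ∈ B', (Sz χ : ℝ) ^ 3 / (d χ : ℝ) := by
      rw [hT', Finset.mul_sum, Finset.mul_sum, ← Finset.sum_sub_distrib]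
      exact Finset.sum_congr rfl fun χ _ => by simp only [hR]; ring
    rw [this]
    push_cast at hmainR
    linarith
  have hTR : (((∑ h : Hs, (cls h).card * L h h.2 : ℕ)) : ℝ) = ((q : ℝ) - 1) ^ 2 + T' := by
    have h : ((∑ χ ∈ B, Sz χ ^ 2 : ℤ) : ℝ) = ((∑ h : Hs, (cls h).card * L h h.2 : ℕ) : ℝ) := by
      rw [hTcls']; simp
    rw [← h]
    push_cast
    rw [← Finset.add_sum_erase _ _ hB1, ← hB', ← hT', hS1]
    push_cast
    ring
  have hRsum : 0 ≤ ∑ χ ∈ B', R χ := Finset.sum_nonneg hRnn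
  obtain ⟨k, hk⟩ := hH2.exists_card_eq
  rw [← hq] at hk
  obtain ⟨x, hx, hx1⟩ := (Subgroup.bot_or_exists_ne_one H).resolve_left hH1
  have hx' : x ∈ Hs := (memHs x).2 ⟨hx, hx1⟩
  rcases k with - | _ | _ | k
  · have := Finset.card_pos.2 ⟨x, hx'⟩
    rw [pow_zero] at hk
    omega
  · obtain ⟨c, hc, hne, -⟩ := hmove x hx'
    rw [pow_one] at hk
    exact hne (Finset.card_le_one.1 (show Hs.card ≤ 1 by omega) c hc x hx')
  · have hq4 : q = 4 := hk
    have hcard3 : Hs.card = 3 := by omega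
    have hconj : ∀ h ∈ Hs, cls h = Hs := by
      intro h hh
      refine Finset.filter_true_of_mem fun c hc => ?_
      by_contra hnc
      obtain ⟨h', hh', hne', hcj'⟩ := hmove h hh
      obtain ⟨c', hc', hne, hcj⟩ := hmove c hc
      have hce : c ≠ h := fun e => hnc (e ▸ IsConj.refl _)
      have hch' : c ≠ h' := fun e => hnc (e ▸ hcj')
      have hsub : ({h, h', c} : Finset G) ⊆ Hs := by
        intro y hy
        simp only [Finset.mem_insert, Finset.mem_singleton] at hy
        rcases hy with rfl | rfl | rfl <;> assumption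
      have heq : ({h, h', c} : Finset G) = Hs := by
        refine Finset.eq_of_subset_of_card_le hsub ?_
        rw [hcard3, Finset.card_eq_three.2 ⟨h, h', c, hne'.symm, hce.symm, hch'.symm, rfl⟩]
      rw [← heq] at hc'
      simp only [Finset.mem_insert, Finset.mem_singleton] at hc'
      rcases hc' with rfl | rfl | rfl
      · exact hnc hcj.symm
      · exact hnc (hcj'.trans hcj.symm)
      · exact hne rfl
    have h36 : 36 ≤ ∑ h : Hs, (cls h).card * L h h.2 := by
      calc 36 = ∑ _h : Hs, 3 * 4 := by simp [hcard3]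
        _ ≤ _ := Finset.sum_le_sum fun h _ => Nat.mul_le_mul
          (by rw [hconj h h.2, hcard3]) (hq4 ▸ hLq h h.2)
    have h36' : (36 : ℝ) ≤ ((∑ h : Hs, (cls h).card * L h h.2 : ℕ) : ℝ) := by exact_mod_cast h36
    have hq4' : (q : ℝ) = 4 := by exact_mod_cast hq4
    rw [hTR, hq4'] at h36'
    rw [hq4'] at hsplit
    have hT27 : T' = 27 := by norm_num at h36' hsplit; linarith
    have hR0 : ∑ χ ∈ B', R χ = 0 := by norm_num at hsplit; linarith
    have hdvd : (25 : ℤ) ∣ ∑ χ ∈ B', Sz χ ^ 2 := by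
      refine Finset.dvd_sum fun χ hχ => ?_
      have hz := (Finset.sum_eq_zero_iff_of_nonneg hRnn).1 hR0 χ hχ
      simp only [hR, hq4'] at hz
      rcases mul_eq_zero.1 hz with hz | hz
      · have : Sz χ = 0 := by exact_mod_cast pow_eq_zero_iff (two_ne_zero) |>.1 hz
        simp [this]
      · have hdpos : (0 : ℝ) < d χ := by exact_mod_cast hd0 χ
        field_simp at hz
        have hz' : 3 * Sz χ = 5 * (d χ : ℤ) := by
          exact_mod_cast show (3 : ℝ) * Sz χ = 5 * d χ by linarith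
        have h5 : (5 : ℤ) ∣ Sz χ := by omega
        obtain ⟨j, hj⟩ := h5
        exact ⟨j ^ 2, by rw [hj]; ring⟩
    have : ∑ χ ∈ B', Sz χ ^ 2 = 27 := by
      exact_mod_cast show ((∑ χ ∈ B', Sz χ ^ 2 : ℤ) : ℝ) = 27 by push_cast; exact hT27
    omega
  · have hq8 : 8 ≤ q := by
      rw [hk]
      calc 8 = 2 ^ 3 := by norm_num
        _ ≤ _ := Nat.pow_le_pow_right (by norm_num) (by omega)
    have h1 : (2 * (((q : ℝ) - 1) * q)) ≤ ((q : ℝ) - 1) ^ 2 + T' := by
      rw [← hTR, ← hcardR]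
      exact_mod_cast hTge
    have hq8' : (8 : ℝ) ≤ q := by exact_mod_cast hq8
    nlinarith [mul_le_mul_of_nonneg_left h1 (show (0 : ℝ) ≤ (q : ℝ) - 3 by linarith), hRsum,
      hsplit]

end Cfsg.Agent.Lib.ExtClosed
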