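import Mathlib
import Cfsg.Agent.Lib.ExtremelyClosed.Characters
import Cfsg.Agent.Lib.BrauerSuzukiQ.ZStarFinal

/-!
# Extremely closed abelian 2-subgroups factor the group

`G = N(H) O(G)` for an extremely closed abelian 2-subgroup `H`.
-/

set_option autoImplicit false
set_option maxHeartbeats 400000
set_option linter.style.haveILetI false

namespace Cfsg.Agent.Lib.ExtClosed

open Cfsg
open Cfsg.Agent.Lib

universe u

variable {G : Type u} [Group G] [Finite G] {H : Subgroup G}

theorem coe_mem_normalizer {Y : Subgroup G} (hHY : H ≤ Y) {x : Y}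
    (hx : x ∈ Subgroup.normalizer ((H.subgroupOf Y : Subgroup Y) : Set Y)) :
    (x : G) ∈ Subgroup.normalizer (H : Set G) := by
  refine mem_normalizer_of_cnj_eq ?_
  have h := congrArg (Subgroup.map Y.subtype) (cnj_of_mem_normalizer hx)
  rwa [← cnj_map, Subgroup.map_subgroupOf_eq_of_le hHY] at h

theorem oc_le_oddCore {Y : Subgroup G} (hY : Y.Normal) : oc Y ≤ oddCore G := by
  haveI := PSolvable.pPrimeCore_characteristic (p := 2) (G := Y)
  exact PSolvable.le_pPrimeCore (Nat.coprime_two_right.2 (oc_odd Y))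

theorem factorization : ∀ (n : ℕ) (G : Type u) [Group G] [Finite G] (H : Subgroup G),
    Nat.card G ≤ n → IsPGroup 2 H → IsMulCommutative H → IsExtremelyClosed H →
      Subgroup.normalizer (H : Set G) ⊔ oddCore G = ⊤ := by
  intro n
  induction n with
  | zero =>
    intro G _ _ H hn
    have : 0 < Nat.card G := Nat.card_pos
    omega
  | succ n ih =>
    intro G _ _ H hn hH2 hab hcl
    classical
    haveI : Fact (Nat.Prime 2) := ⟨Nat.prime_two⟩
    set N := Subgroup.normalizer (H : Set G) with hNdef
    by_contra hne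
    have hH1 : H ≠ ⊥ := by
      intro h
      subst h
      refine hne (eq_top_iff.2 fun x _ => Subgroup.mem_sup_left ?_)
      exact mem_normalizer_of_cnj_eq (Subgroup.map_bot _)
    -- proper overgroups factor
    have hfac : FactorsBelow H := by
      intro Y hY hHY y hy
      have hcard : Nat.card Y ≤ n := by
        have : Nat.card Y < Nat.card G := lt_of_le_of_ne (Subgroup.card_le_card_group Y)
          (fun h => hY (Subgroup.eq_top_of_card_eq Y h))
        omega
      have hab' : IsMulCommutative (H.subgroupOf Y) := ⟨⟨fun a b => Subtype.ext (Subtype.ext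
        (commute_of_mem hab (Subgroup.mem_subgroupOf.1 a.2) (Subgroup.mem_subgroupOf.1 b.2)).eq)⟩⟩
      have h := ih Y (H.subgroupOf Y) hcard
        (hH2.of_equiv (Subgroup.subgroupOfEquivOfLe hHY).symm) hab'
        (isExtremelyClosed_subgroupOf hcl hHY)
      haveI := PSolvable.pPrimeCore_characteristic (p := 2) (G := Y)
      obtain ⟨m, hm, o, ho, he⟩ := Subgroup.mem_sup_of_normal_right.1
        (h ▸ Subgroup.mem_top (⟨y, hy⟩ : Y))
      exact ⟨m, m.2, coe_mem_normalizer hHY hm, o, ⟨o, ho, rfl⟩, (congrArg Subtype.val he).symm⟩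
    -- the conjugates generate
    have hgenN : Subgroup.normalClosure (H : Set G) = ⊤ := by
      by_contra hne0
      set G₀ := Subgroup.normalClosure (H : Set G) with hG₀
      have hHG₀ : H ≤ G₀ := Subgroup.le_normalClosure
      refine hne (eq_top_iff.2 fun g _ => ?_)
      have hk : kOf hH2 hab hcl g ∈ G₀ := kOf_mem_of_mem hH2 hab hcl hHG₀ (by
        rintro _ ⟨h, hh, rfl⟩
        exact (Subgroup.normalClosure_normal (s := (H : Set G))).conj_mem h (hHG₀ hh) g)
      obtain ⟨m, -, hmN, o, ho, he⟩ := hfac G₀ hne0 hHG₀ _ hk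
      rw [← kOf_mul_nOf hH2 hab hcl g, he]
      exact mul_mem (mul_mem (Subgroup.mem_sup_left hmN)
        (Subgroup.mem_sup_right (oc_le_oddCore Subgroup.normalClosure_normal ho)))
        (Subgroup.mem_sup_left (nOf_mem hH2 hab hcl g))
    -- passing to a quotient
    have hquot : ∀ (K : Subgroup G) [K.Normal], K ≠ ⊥ → oddCore (G ⧸ K) = ⊥ →
        ∀ g : G, g ∈ N ⊔ K := by
      intro K _ hK hO g
      have hcard : Nat.card (G ⧸ K) ≤ n := by
        have h1 := K.card_eq_card_quotient_mul_card_subgroup
        have h2 : 1 < Nat.card K := Subgroup.one_lt_card_iff_ne_bot K |>.2 hK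
        have h3 : 0 < Nat.card (G ⧸ K) := Nat.card_pos
        nlinarith
      have hab' : IsMulCommutative (H.map (QuotientGroup.mk' K)) := ⟨⟨fun a b => Subtype.ext (by
        obtain ⟨a', ha', ha⟩ := a.2
        obtain ⟨b', hb', hb⟩ := b.2
        show (a : G ⧸ K) * b = b * a
        rw [← ha, ← hb, ← map_mul, ← map_mul, (commute_of_mem hab ha' hb').eq])⟩⟩
      have h := ih (G ⧸ K) (H.map (QuotientGroup.mk' K)) hcard (hH2.map _) hab'
        (isExtremelyClosed_map_mk' hH2 hab hcl K)
      rw [hO, sup_bot_eq] at h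
      have hle : cnj g H ≤ H ⊔ K := by
        have hmem : QuotientGroup.mk' K g ∈
            Subgroup.normalizer ((H.map (QuotientGroup.mk' K) : Subgroup (G ⧸ K)) : Set (G ⧸ K)) :=
          h ▸ Subgroup.mem_top _
        have h1 := cnj_of_mem_normalizer hmem
        rw [cnj_map] at h1
        calc cnj g H ≤ ((cnj g H).map (QuotientGroup.mk' K)).comap (QuotientGroup.mk' K) :=
              Subgroup.le_comap_map _ _
          _ = H ⊔ K := by rw [h1, Subgroup.comap_map_eq, QuotientGroup.ker_mk']
      rw [← kOf_mul_nOf hH2 hab hcl g]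
      refine mul_mem ?_ (Subgroup.mem_sup_left (nOf_mem hH2 hab hcl g))
      exact sup_le_sup_right Subgroup.le_normalizer K
        (kOf_mem_of_mem hH2 hab hcl le_sup_left hle)
    have hO : oddCore G = ⊥ := by
      by_contra hO
      haveI := PSolvable.pPrimeCore_characteristic (p := 2) (G := G)
      refine hne (eq_top_iff.2 fun g _ => hquot (oddCore G) hO ?_ g)
      exact PSolvable.pPrimeCore_quotient_eq_bot
    have hN : N ≠ ⊤ := fun h => hne (by rw [h, top_sup_eq])
    have hcenter : ∀ h ∈ H, h ∈ Subgroup.center G → h = 1 := by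
      intro h hh hc
      by_contra h1
      obtain ⟨e, he⟩ := exists_orderOf_pow hH2 hh
      rcases e with - | e
      · exact h1 (orderOf_eq_one_iff.1 (by simpa using he))
      set z := h ^ 2 ^ e with hz
      have hz2 : orderOf z = 2 := by
        rw [hz, orderOf_pow' _ (pow_ne_zero _ two_ne_zero), he, pow_succ,
          Nat.gcd_eq_right (dvd_mul_right _ _), Nat.mul_div_cancel_left _ (pow_pos two_pos _)]
      have hzc : z ∈ Subgroup.center G := pow_mem hc _
      have hzH : Subgroup.zpowers z ≤ H := Subgroup.zpowers_le.2 (pow_mem hh _)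
      haveI : (Subgroup.zpowers z).Normal := ⟨fun x hx g => by
        rw [Subgroup.mem_center_iff.1 ((Subgroup.zpowers_le.2 hzc) hx) g, mul_inv_cancel_right]
        exact hx⟩
      have hOq : oddCore (G ⧸ Subgroup.zpowers z) = ⊥ := by
        have h2 := congrArg (Subgroup.map (QuotientGroup.mk' (Subgroup.zpowers z)))
          (ZStar.comap_oddCore_eq_zpowers hO hz2 hzc)
        rwa [Subgroup.map_comap_eq_self_of_surjective (QuotientGroup.mk'_surjective _),
          QuotientGroup.map_mk'_self] at h2
      refine hN (eq_top_iff.2 fun g _ => ?_)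
      have := hquot (Subgroup.zpowers z) (by
        rw [Ne, Subgroup.zpowers_eq_bot]
        intro h0
        rw [h0, orderOf_one] at hz2
        omega) hOq g
      rwa [sup_eq_left.2 (hzH.trans Subgroup.le_normalizer)] at this
    -- a fixed element
    obtain ⟨h, hh, h1, hfix⟩ : ∃ h ∈ H, h ≠ 1 ∧ ∀ m ∈ N, m * h * m⁻¹ = h := by
      by_cases htriple : ∃ g f : G, H ⊔ cnj g H ⊔ cnj f H = ⊤
      · obtain ⟨g, f, hgf⟩ := htriple
        exact exists_fixed_of_triple hH2 hab hcl hH1 hfac hcenter g f hgf
      · obtain ⟨h, hh, h1⟩ := (Subgroup.bot_or_exists_ne_one H).resolve_left hH1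
        exact ⟨h, hh, h1, fun m hm => commute_of_no_triple hH2 hab hcl hfac
          (fun g f hgf => htriple ⟨g, f, hgf⟩) hgenN m hm h hh⟩
    obtain ⟨e, he⟩ := exists_orderOf_pow hH2 hh
    rcases e with - | e
    · exact h1 (orderOf_eq_one_iff.1 (by simpa using he))
    set z := h ^ 2 ^ e with hz
    have hz2 : orderOf z = 2 := by
      rw [hz, orderOf_pow' _ (pow_ne_zero _ two_ne_zero), he, pow_succ,
        Nat.gcd_eq_right (dvd_mul_right _ _), Nat.mul_div_cancel_left _ (pow_pos two_pos _)]
    have hzH : z ∈ H := pow_mem hh _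
    have hiso := isIsolatedInvolution_of_fixed hH2 hab hcl hzH hz2 fun m hm => by
      rw [hz, ← conj_pow, hfix m hm]
    have hzc : z ∈ Subgroup.center G := Subgroup.mem_center_iff.2 fun g => by
      have hg := BrauerSuzukiQ.zstar hiso g
      rw [hO, Subgroup.mem_bot, mul_inv_eq_one, mul_inv_eq_iff_eq_mul] at hg
      exact hg.symm
    have := hcenter z hzH hzc
    rw [this, orderOf_one] at hz2
    omega

end Cfsg.Agent.Lib.ExtClosed
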